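import Cfsg.Agent.H488.Pb.Loc
import Cfsg.Agent.H208.Pb.SecSum
import Cfsg.Agent.H617.Pb.Bridge

/-!
# S4822: the criteria from the data of `S` (helper488)

* `two_le_eps_simple` : `N` simple, not abelian, `p ∣ |N|` ⇒ `2 ≤ eps p M N C`
* `data_le_orb` : `2 + w (p - 1) ≤ orb M (Inn S) (X ⊓ L)` for `D : Data p S L w`
* `kbRow_of_data` (`w = 1`), `kbRow_of_data_ext` (`w = 1 / 2` and an extension)
-/

set_option autoImplicit false

open Cfsg
open scoped ComplexConjugate

namespace Cfsg.Agent.H488.Pb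

open Cfsg.Agent.H617.Pb Cfsg.Agent.H272.Pb Cfsg.Agent.H684.BlockTools Cfsg.Agent.Characters

universe u

section two

variable {Γ : Type u} [Group Γ] [Finite Γ] {p : ℕ} [Fact p.Prime] {M : Ideal AlgInt}

/-- `N` simple -/
theorem two_le_eps_simple (hM : IsPModular p M) (N C : Subgroup Γ) (hn : ∀ c ∈ C, ∀ x ∈ N, c * x * c⁻¹ ∈ N)
    (hs : IsSimpleGroup ↥N) (hna : ¬ IsMulCommutative ↥N) (hpN : p ∣ Nat.card N) : 2 ≤ eps p M N C := by
  classical
  have hp : p.Prime := Fact.out
  have hfin := finite_principal (M := M) (G := ↥N)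
  let _ : Fintype (principalBlock M ↥N) := Fintype.ofFinite _
  let a : ↥(Inv p M N C) := ⟨f0 p N, f0_mem hM N C hn⟩
  let b : ↥(Inv p M N C) := ⟨pRegularPart p (rh M N), rh_mem hM N C hn⟩
  have hli : LinearIndependent ℂ ![a, b] := by
    rw [LinearIndependent.pair_iff]
    intro s t hst
    have hst' : ∀ x : ↥N, IsPRegular p x → s + t * rh M N x = 0 := by
      intro x hx
      have h1 := congrFun (congrArg Subtype.val hst) x
      have h2 : s * f0 p N x + t * pRegularPart p (rh M N) x = 0 := h1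
      unfold f0 pRegularPart at h2
      rw [if_pos hx, if_pos hx, mul_one] at h2
      exact h2
    have ht : t = 0 := by
      by_contra ht
      have hone := hst' 1 (reg_one N)
      -- the `p`-regular elements are in the kernels
      have hker : ∀ x : ↥N, IsPRegular p x → ∀ χ : principalBlock M ↥N,
          ((χ : IrrCharacter ↥N) : ↥N → ℂ) x = ((χ : IrrCharacter ↥N) : ↥N → ℂ) 1 := by
        intro x hx
        refine ker_of_eq (fun χ : principalBlock M ↥N => ((χ : IrrCharacter ↥N) : ↥N → ℂ))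
          (fun χ => (χ : IrrCharacter ↥N).2) ?_
        have h1 := hst' x hx
        have h2 : t * rh M N x = t * rh M N 1 := by linear_combination h1 - hone
        exact mul_left_cancel₀ ht h2
      -- a `p`-regular element
      obtain ⟨g, hg, hg1⟩ : ∃ g : ↥N, IsPRegular p g ∧ g ≠ 1 := by
        by_contra hcon
        push Not at hcon
        have hP : IsPGroup p ↥N := by
          rw [IsPGroup.iff_orderOf]
          intro x
          obtain ⟨n, r, hr, hnr⟩ := Nat.exists_eq_pow_mul_and_not_dvd (orderOf_pos x).ne' p hp.ne_one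
          have h1 : orderOf (x ^ p ^ n) ∣ r := by
            apply orderOf_dvd_of_pow_eq_one
            rw [← pow_mul, ← hnr, pow_orderOf_eq_one]
          have h2 := hcon (x ^ p ^ n) (fun h2 => hr (h2.trans h1))
          obtain ⟨k, -, hk⟩ := (Nat.dvd_prime_pow hp).1 (orderOf_dvd_of_pow_eq_one h2)
          exact ⟨k, hk⟩
        have hnt : Nontrivial (Subgroup.center ↥N) := hP.center_nontrivial
        rcases IsSimpleGroup.eq_bot_or_eq_top_of_normal (Subgroup.center ↥N) inferInstance with h1 | h1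
        · rw [h1] at hnt
          exact not_nontrivial_iff_subsingleton.2 inferInstance hnt
        · exact hna ⟨⟨fun x y => (Subgroup.mem_center_iff.1 (h1 ▸ Subgroup.mem_top x) y).symm⟩⟩
      -- the common kernel
      let K : Subgroup ↥N :=
        { carrier := {x | ∀ χ : principalBlock M ↥N, ∀ y : ↥N,
            ((χ : IrrCharacter ↥N) : ↥N → ℂ) (x * y) = ((χ : IrrCharacter ↥N) : ↥N → ℂ) y}
          one_mem' := fun χ y => by rw [one_mul]
          mul_mem' := fun {x x'} hx hx' χ y => by rw [mul_assoc, hx, hx']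
          inv_mem' := fun {x} hx χ y => by
            have h1 := hx χ (x⁻¹ * y)
            rw [mul_inv_cancel_left] at h1
            exact h1.symm }
      have hKn : K.Normal := by
        refine ⟨fun x hx c χ y => ?_⟩
        have hcl := Core.isIrr_isClassFunction (χ : IrrCharacter ↥N).2
        have h1 : c * x * c⁻¹ * y = c * (x * (c⁻¹ * y * c)) * c⁻¹ := by group
        have h2 : y = c * (c⁻¹ * y * c) * c⁻¹ := by group
        rw [h1, hcl, hx χ]
        conv_rhs => rw [h2]
        rw [hcl]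
      have hK : K = ⊤ := by
        rcases IsSimpleGroup.eq_bot_or_eq_top_of_normal K hKn with h1 | h1
        · exfalso
          apply hg1
          rw [← Subgroup.mem_bot, ← h1]
          exact fun χ y => apply_mul_eq (χ : IrrCharacter ↥N).2 (hker g hg χ) y
        · exact h1
      obtain ⟨w, hw⟩ := exists_prime_orderOf_dvd_card' (G := ↥N) p hpN
      have hw1 : w ≠ 1 := by
        rintro rfl
        rw [orderOf_one] at hw
        exact hp.one_lt.ne hw
      have hwk : ∀ χ : principalBlock M ↥N,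
          ((χ : IrrCharacter ↥N) : ↥N → ℂ) w = ((χ : IrrCharacter ↥N) : ↥N → ℂ) 1 := by
        intro χ
        have h1 : w ∈ K := hK ▸ Subgroup.mem_top w
        have h2 := h1 χ 1
        rw [mul_one] at h2
        exact h2
      have horth := orth (G := ↥N) hM (x := w) (y := 1) ⟨1, by rw [hw, pow_one]⟩ ⟨0, by rw [orderOf_one, pow_zero]⟩ (by
        intro h1
        exact hw1 (isConj_one_left.1 h1))
      rw [← finsum_set_coe_eq_finsum_mem, finsum_eq_sum_of_fintype] at horth
      simp only [hwk] at horth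
      have hd : ∀ χ : principalBlock M ↥N, ∃ d : ℕ, 0 < d ∧ ((χ : IrrCharacter ↥N) : ↥N → ℂ) 1 = d := fun χ => by
        obtain ⟨d, h1, h2⟩ := Cfsg.Agent.Characters.Core.isIrr_apply_one (χ : IrrCharacter ↥N).2
        exact ⟨d, h1, h2⟩
      choose d hd0 hd using hd
      simp only [hd, Complex.conj_natCast] at horth
      have h3 : ((∑ χ : principalBlock M ↥N, d χ * d χ : ℕ) : ℂ) = 0 := by
        push_cast
        exact horth
      have h4 : ∑ χ : principalBlock M ↥N, d χ * d χ = 0 := by exact_mod_cast h3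
      have h5 := (Finset.sum_eq_zero_iff.1 h4) ⟨triv ↥N, triv_mem hM⟩ (Finset.mem_univ _)
      have h6 := hd0 ⟨triv ↥N, triv_mem hM⟩
      rcases mul_eq_zero.1 h5 with h7 | h7 <;> omega
    refine ⟨?_, ht⟩
    have h1 := hst' 1 (reg_one N)
    rw [ht, zero_mul, add_zero] at h1
    exact h1
  have h1 := hli.fintype_card_le_finrank
  rw [Fintype.card_fin] at h1
  exact h1

end two

section data

variable {S : Type u} [Group S] [Finite S] [IsSimpleGroup S] {p : ℕ} [hp : Fact p.Prime] {M : Ideal AlgInt}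

/-- the automizer of `⟨u⟩` in `L` -/
def autz (L : Subgroup (MulAut S)) (u : S) (hu : orderOf u = p) : Subgroup (ZMod p)ˣ where
  carrier := {k | ∃ a ∈ L, a u = u ^ (k : ZMod p).val}
  one_mem' := ⟨1, L.one_mem, by
    have : Fact (1 < p) := ⟨hp.out.one_lt⟩
    rw [Units.val_one, ZMod.val_one, pow_one]; rfl⟩
  mul_mem' := by
    rintro k l ⟨a, ha, hak⟩ ⟨b, hb, hbl⟩
    refine ⟨a * b, L.mul_mem ha hb, ?_⟩
    rw [MulAut.mul_apply, hbl, map_pow, hak, ← pow_mul, Units.val_mul, ZMod.val_mul, pow_eq_pow_iff_modEq, hu]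
    exact (Nat.mod_modEq _ _).symm
  inv_mem' := by
    rintro k ⟨a, ha, hak⟩
    refine ⟨a⁻¹, L.inv_mem ha, ?_⟩
    have h1 : a (u ^ ((k⁻¹ : (ZMod p)ˣ) : ZMod p).val) = u := by
      rw [map_pow, hak, ← pow_mul]
      nth_rewrite 2 [← pow_one u]
      rw [pow_eq_pow_iff_modEq, hu, ← ZMod.natCast_eq_natCast_iff]
      push_cast
      rw [ZMod.natCast_zmod_val, ZMod.natCast_zmod_val]
      exact mul_inv_cancel₀ k.ne_zero
    rw [← h1, ← MulAut.mul_apply, inv_mul_cancel, MulAut.one_apply, h1]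

omit [Finite S] [IsSimpleGroup S] in
theorem conj_conj (c : MulAut S) (s : S) : c * MulAut.conj s * c⁻¹ = MulAut.conj (c s) := by
  apply MulEquiv.ext
  intro y
  show c (s * (c⁻¹ y) * s⁻¹) = c s * y * (c s)⁻¹
  rw [map_mul, map_mul, map_inv]
  congr 2
  exact MulAut.apply_inv_self S c y

omit [Finite S] [IsSimpleGroup S] in
/-- the power of the generator is trivial only for the zero exponent -/
theorem pow_val_ne {u : S} (hu : orderOf u = p) (k : (ZMod p)ˣ) : u ^ (k : ZMod p).val ≠ 1 := by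
  intro h
  have h1 := orderOf_dvd_of_pow_eq_one h
  rw [hu, ← ZMod.natCast_eq_zero_iff, ZMod.natCast_zmod_val] at h1
  exact k.ne_zero h1

omit [Finite S] [IsSimpleGroup S] in
theorem pow_val_inv {u : S} (hu : u ^ p = 1) (k : (ZMod p)ˣ) :
    (u ^ (k : ZMod p).val) ^ ((k⁻¹ : (ZMod p)ˣ) : ZMod p).val = u := by
  rw [← pow_mul]
  have h1 : u ^ ((k : ZMod p).val * ((k⁻¹ : (ZMod p)ˣ) : ZMod p).val) = u ^ 1 := by
    rw [pow_eq_pow_iff_modEq]
    refine Nat.ModEq.of_dvd (orderOf_dvd_of_pow_eq_one hu) ?_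
    rw [← ZMod.natCast_eq_natCast_iff]
    push_cast
    rw [ZMod.natCast_zmod_val, ZMod.natCast_zmod_val]
    exact mul_inv_cancel₀ k.ne_zero
  rw [h1, pow_one]

theorem data_le_orb (hS : ¬ IsMulCommutative S) (hpS : p ∣ Nat.card S) (hM : IsPModular p M)
    (L : Subgroup (MulAut S)) (hL : Inn S ≤ L) (X : Subgroup (MulAut S)) (hX : Adm p S X) {w : ℚ}
    (D : Data p S L w) : 2 + w * (p - 1) ≤ (orb M (Inn S) (X ⊓ L) : ℚ) := by
  classical
  have hinj := conj_injective hS
  have hNC : Inn S ≤ X ⊓ L := le_inf hX.1 hL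
  have hn : ∀ c ∈ X ⊓ L, ∀ x ∈ Inn S, c * x * c⁻¹ ∈ Inn S := fun c _ x hx => conj_mem_inn c hx
  have hC : Adm p S (X ⊓ L) := by
    refine ⟨hNC, fun h => hX.2 (h.trans ?_)⟩
    rw [← Subgroup.relIndex_mul_relIndex _ _ _ hNC (inf_le_left : X ⊓ L ≤ X)]
    exact dvd_mul_right _ _
  let H : Fin D.n → Subgroup (ZMod p)ˣ := fun i => autz L (D.u i) (D.ord i)
  let Q : Fin D.n → Type := fun i => (ZMod p)ˣ ⧸ H i
  have hQ : ∀ i, Fintype (Q i) := fun i => Fintype.ofFinite _
  let rep : (Σ i, Q i) → (ZMod p)ˣ := fun x => Quotient.out x.2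
  let v : Option (Σ i, Q i) → MulAut S := fun x =>
    x.elim 1 fun y => MulAut.conj (D.u y.1 ^ ((rep y : (ZMod p)ˣ) : ZMod p).val)
  have hup : ∀ i, D.u i ^ p = 1 := fun i => by
    have h1 := pow_orderOf_eq_one (D.u i)
    rwa [D.ord i] at h1
  have key := H208.Pb.sum_le_orb hM (Inn S) (X ⊓ L) hNC hn v (by
    rintro (_ | x)
    · exact ⟨(Inn S).one_mem, 0, by
        show orderOf (1 : MulAut S) = _
        rw [orderOf_one, pow_zero]⟩
    · refine ⟨⟨_, rfl⟩, 1, ?_⟩
      show orderOf (MulAut.conj (D.u x.1 ^ ((rep x : (ZMod p)ˣ) : ZMod p).val)) = p ^ 1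
      rw [pow_one]
      apply orderOf_eq_prime
      · rw [← map_pow, ← pow_mul, mul_comm, pow_mul, hup, one_pow, map_one]
      · intro h
        exact pow_val_ne (D.ord x.1) (rep x) (hinj (h.trans (map_one _).symm))) (by
    rintro (_ | x) (_ | y) ⟨c, hc, h⟩
    · rfl
    · exfalso
      change c * 1 * c⁻¹ = MulAut.conj (D.u y.1 ^ ((rep y : (ZMod p)ˣ) : ZMod p).val) at h
      rw [mul_one, mul_inv_cancel] at h
      exact pow_val_ne (D.ord y.1) (rep y) (hinj (h.symm.trans (map_one _).symm))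
    · exfalso
      change c * MulAut.conj (D.u x.1 ^ ((rep x : (ZMod p)ˣ) : ZMod p).val) * c⁻¹ = 1 at h
      rw [mul_inv_eq_one, mul_eq_left] at h
      exact pow_val_ne (D.ord x.1) (rep x) (hinj (h.trans (map_one _).symm))
    · change c * MulAut.conj (D.u x.1 ^ ((rep x : (ZMod p)ˣ) : ZMod p).val) * c⁻¹ =
        MulAut.conj (D.u y.1 ^ ((rep y : (ZMod p)ˣ) : ZMod p).val) at h
      rw [conj_conj] at h
      have h1 := hinj h
      rw [map_pow] at h1
      have h2 : c (D.u x.1) ^ p = 1 := by rw [← map_pow, hup, map_one]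
      have h3 : c (D.u x.1) = D.u y.1 ^ (((rep y : (ZMod p)ˣ) : ZMod p).val *
          (((rep x)⁻¹ : (ZMod p)ˣ) : ZMod p).val) := by
        rw [pow_mul, ← h1, pow_val_inv h2]
      have h4 := D.sep _ _ c hc.2 _ h3
      obtain ⟨i, k⟩ := x
      obtain ⟨j, l⟩ := y
      obtain rfl : i = j := h4
      congr 2
      rw [← Quotient.out_eq k, ← Quotient.out_eq l]
      apply QuotientGroup.eq.2
      refine ⟨c, hc.2, ?_⟩
      rw [h3, pow_eq_pow_iff_modEq, D.ord, ← ZMod.natCast_eq_natCast_iff]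
      push_cast
      rw [ZMod.natCast_zmod_val, ZMod.natCast_zmod_val, ZMod.natCast_zmod_val, mul_comm])
  -- the summands
  rw [Fintype.sum_option, Fintype.sum_sigma] at key
  have hnone : 2 ≤ eps p M (Inn S ⊓ Subgroup.centralizer {v none}) (X ⊓ L ⊓ Subgroup.centralizer {v none}) := by
    have h1 : Subgroup.centralizer ({v none} : Set (MulAut S)) = ⊤ := by
      rw [eq_top_iff]
      intro a _
      rw [Subgroup.mem_centralizer_singleton_iff]
      show a * 1 = 1 * a
      rw [mul_one, one_mul]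
    rw [h1, inf_top_eq, inf_top_eq]
    let e : S ≃* ↥(Inn S) := MonoidHom.ofInjective hinj
    refine two_le_eps_simple hM _ _ hn e.symm.isSimpleGroup ?_ ?_
    · rintro ⟨⟨h2⟩⟩
      exact hS ⟨⟨fun a b => e.injective (by rw [map_mul, map_mul, h2])⟩⟩
    · rw [← Nat.card_congr e.toEquiv]
      exact hpS
  have hsome : ∀ (i : Fin D.n) (k : Q i), D.ε i ≤
      eps p M (Inn S ⊓ Subgroup.centralizer {v (some ⟨i, k⟩)}) (X ⊓ L ⊓ Subgroup.centralizer {v (some ⟨i, k⟩)}) := by
    intro i k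
    have h1 : Subgroup.centralizer ({v (some ⟨i, k⟩)} : Set (MulAut S)) =
        Subgroup.centralizer {MulAut.conj (D.u i)} := by
      have h2 : v (some ⟨i, k⟩) = MulAut.conj (D.u i) ^ ((rep ⟨i, k⟩ : (ZMod p)ˣ) : ZMod p).val := map_pow _ _ _
      have h3 : MulAut.conj (D.u i) = v (some ⟨i, k⟩) ^ (((rep ⟨i, k⟩)⁻¹ : (ZMod p)ˣ) : ZMod p).val := by
        show _ = MulAut.conj _ ^ _
        rw [← map_pow, pow_val_inv (hup i)]
      apply le_antisymm
      · intro a ha
        rw [Subgroup.mem_centralizer_singleton_iff] at ha ⊢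
        rw [h3]
        exact (Commute.pow_right ha _)
      · intro a ha
        rw [Subgroup.mem_centralizer_singleton_iff] at ha ⊢
        rw [h2]
        exact (Commute.pow_right ha _)
    rw [h1]
    exact D.loc i M hM (X ⊓ L) hC inf_le_right
  have hcardQ : ∀ i, Fintype.card (Q i) * Nat.card (H i) = p - 1 := by
    intro i
    rw [← Nat.card_eq_fintype_card, ← Subgroup.card_eq_card_quotient_mul_card_subgroup, Nat.card_eq_fintype_card,
      ZMod.card_units]
  have hH : ∀ i, Nat.card (H i) ≤ D.e i := fun i => D.aut i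
  have hsum : ∑ i, Fintype.card (Q i) * D.ε i ≤ ∑ i, ∑ k : Q i,
      eps p M (Inn S ⊓ Subgroup.centralizer {v (some ⟨i, k⟩)}) (X ⊓ L ⊓ Subgroup.centralizer {v (some ⟨i, k⟩)}) := by
    refine Finset.sum_le_sum fun i _ => ?_
    rw [← smul_eq_mul, ← Finset.card_univ, ← Finset.sum_const]
    exact Finset.sum_le_sum fun k _ => hsome i k
  have h1 : 2 + ∑ i, Fintype.card (Q i) * D.ε i ≤ orb M (Inn S) (X ⊓ L) :=
    (Nat.add_le_add hnone hsum).trans key
  have h2 : w * (p - 1) ≤ ((∑ i, Fintype.card (Q i) * D.ε i : ℕ) : ℚ) := by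
    have hp1 : (0 : ℚ) ≤ (p : ℚ) - 1 := by
      have : (1 : ℚ) ≤ p := by exact_mod_cast hp.out.one_lt.le
      linarith
    refine (mul_le_mul_of_nonneg_right D.sum hp1).trans ?_
    rw [Finset.sum_mul]
    push_cast
    refine Finset.sum_le_sum fun i _ => ?_
    have he : (0 : ℚ) < D.e i := by exact_mod_cast D.epos i
    rw [div_mul_eq_mul_div, div_le_iff₀ he]
    have h3 : (p : ℚ) - 1 ≤ Fintype.card (Q i) * D.e i := by
      have h4 : p - 1 ≤ Fintype.card (Q i) * D.e i := by
        rw [← hcardQ i]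
        exact Nat.mul_le_mul_left _ (hH i)
      have h5 : ((p - 1 : ℕ) : ℚ) ≤ ((Fintype.card (Q i) * D.e i : ℕ) : ℚ) := by exact_mod_cast h4
      rw [Nat.cast_sub hp.out.one_lt.le] at h5
      push_cast at h5
      exact h5
    have h6 : (0 : ℚ) ≤ D.ε i := Nat.cast_nonneg _
    nlinarith
  have h3 : ((2 + ∑ i, Fintype.card (Q i) * D.ε i : ℕ) : ℚ) ≤ (orb M (Inn S) (X ⊓ L) : ℚ) := by exact_mod_cast h1
  push_cast at h3 h2
  linarith

/-- **criterion 1** -/
theorem kbRow_of_data (hS : ¬ IsMulCommutative S) (hpS : p ∣ Nat.card S) (hM : IsPModular p M)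
    (L : Subgroup (MulAut S)) (hL : Big S L) (D : Data p S L 1) : H508.KB.Row p M S := by
  refine kbRow_of_mu hM L hL fun X hX => ?_
  have h1 := data_le_orb hS hpS hM L hL.1 X hX D
  have h2 : (p : ℚ) ≤ (orb M (Inn S) (X ⊓ L) : ℚ) := by linarith
  exact_mod_cast h2

/-- **criterion 2** -/
theorem kbRow_of_data_ext (hS : ¬ IsMulCommutative S) (hpS : p ∣ Nat.card S) (hM : IsPModular p M)
    (L : Subgroup (MulAut S)) (hL : Big S L) (D : Data p S L (1 / 2)) (hext : H508.KB.ExtB p M S) :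
    H508.KB.Row p M S := by
  refine kbRow_of_mu_ext hM L hL hext fun X hX => ?_
  have h1 := data_le_orb hS hpS hM L hL.1 X hX D
  have h2 : ((p + 3 : ℕ) : ℚ) ≤ ((2 * orb M (Inn S) (X ⊓ L) : ℕ) : ℚ) := by
    push_cast
    linarith
  exact_mod_cast h2

end data

end Cfsg.Agent.H488.Pb
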