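import Cfsg.Agent.H617.Pb.Defs
import Mathlib

/-!
# S4822, B9: local information from explicit elements (helper488)

Abstract version: the facts B2, B3 on `eps` are hypotheses.
-/

set_option autoImplicit false

namespace Cfsg.Agent.H488.Pb

open Cfsg Cfsg.Agent.H617.Pb Subgroup

universe u v w

/-- B2 (`eps_pos`) -/
def EpsPos (p : ℕ) : Prop :=
  ∀ (Γ : Type u) [Group Γ] [Finite Γ] (M : Ideal AlgInt), IsPModular p M → ∀ N C : Subgroup Γ,
    (∀ c ∈ C, ∀ x ∈ N, c * x * c⁻¹ ∈ N) → 1 ≤ eps p M N C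

/-- B2 (`two_le_eps`) -/
def EpsTwo (p : ℕ) : Prop :=
  ∀ (Γ : Type u) [Group Γ] [Finite Γ] (M : Ideal AlgInt), IsPModular p M → ∀ N C : Subgroup Γ,
    (∀ c ∈ C, ∀ x ∈ N, c * x * c⁻¹ ∈ N) → ∀ v h : Γ, v ∈ N → h ∈ N → orderOf v = p → ∀ k : ℕ,
    h * v * h⁻¹ = v ^ k → v ^ k ≠ v → 2 ≤ eps p M N C

/-- B3a (`eps_map`) -/
def EpsMap (p : ℕ) : Prop :=
  ∀ (Γ : Type u) [Group Γ] [Finite Γ] (M : Ideal AlgInt), IsPModular p M → ∀ (Y : Type v) [Group Y] [Finite Y]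
    (N C : Subgroup Γ), N ≤ C → (∀ c ∈ C, ∀ x ∈ N, c * x * c⁻¹ ∈ N) → ∀ f : ↥C →* Y,
    eps p M ((N.subgroupOf C).map f) f.range ≤ eps p M N C

/-- B3b (`eps_cyc`) -/
def EpsCyc (p : ℕ) : Prop :=
  ∀ (Γ : Type u) [Group Γ] [Finite Γ] (M : Ideal AlgInt), IsPModular p M → ∀ N C : Subgroup Γ, N ≤ C →
    (∀ c ∈ C, ∀ x ∈ N, c * x * c⁻¹ ∈ N) → ¬ p ^ 2 ∣ Nat.card C → ∀ v h : Γ, v ∈ N → h ∈ N → orderOf v = p →
    ∀ k : ℕ, h * v * h⁻¹ = v ^ k → orderOf (k : ZMod p) ≤ eps p M N C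

section
variable {S : Type u} [Group S]

theorem conj_mem_inn (a : MulAut S) {x : MulAut S} (hx : x ∈ Inn S) : a * x * a⁻¹ ∈ Inn S := by
  obtain ⟨s, rfl⟩ := hx
  refine ⟨a s, ?_⟩
  apply MulEquiv.ext
  intro y
  show a s * y * (a s)⁻¹ = a (s * (a⁻¹ y) * s⁻¹)
  rw [map_mul, map_mul, map_inv]
  congr 2
  exact (MulAut.apply_inv_self S a y).symm

theorem cen_normal (X : Subgroup (MulAut S)) (u : S) :
    ∀ c ∈ Cen X u, ∀ x ∈ Cen (Inn S) u, c * x * c⁻¹ ∈ Cen (Inn S) u := by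
  intro c hc x hx
  exact ⟨conj_mem_inn c hx.1, (Subgroup.centralizer _).mul_mem ((Subgroup.centralizer _).mul_mem hc.2 hx.2)
    ((Subgroup.centralizer _).inv_mem hc.2)⟩

theorem cen_le {X : Subgroup (MulAut S)} (hX : Inn S ≤ X) (u : S) : Cen (Inn S) u ≤ Cen X u :=
  inf_le_inf_right _ hX

theorem mem_cen {u v : S} (h : Commute v u) : MulAut.conj v ∈ Cen (Inn S) u := by
  refine Subgroup.mem_inf.2 ⟨⟨v, rfl⟩, ?_⟩
  rw [mem_centralizer_singleton_iff, ← map_mul, ← map_mul, h.eq]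

theorem conj_injective [IsSimpleGroup S] (hS : ¬ IsMulCommutative S) :
    Function.Injective (MulAut.conj : S →* MulAut S) := by
  rw [← MonoidHom.ker_eq_bot_iff]
  rcases IsSimpleGroup.eq_bot_or_eq_top_of_normal (MulAut.conj : S →* MulAut S).ker inferInstance with h | h
  · exact h
  · exfalso
    apply hS
    refine ⟨⟨fun a b => ?_⟩⟩
    have h1 : a ∈ (MulAut.conj : S →* MulAut S).ker := h ▸ mem_top a
    have h2 : (MulAut.conj a : MulAut S) b = b := by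
      rw [MonoidHom.mem_ker.1 h1]; rfl
    rw [MulAut.conj_apply, mul_inv_eq_iff_eq_mul] at h2
    exact h2

theorem loc_one_of {p : ℕ} [Finite S] (H : EpsPos.{u} p) (L : Subgroup (MulAut S)) (u : S) : Loc p L u 1 :=
  fun M hM X _ _ => H (MulAut S) M hM _ _ (cen_normal X u)

theorem loc_two_of {p : ℕ} [Finite S] [IsSimpleGroup S] (H : EpsTwo.{u} p) (hS : ¬ IsMulCommutative S)
    (L : Subgroup (MulAut S)) (u v h : S) (hv : Commute v u) (hh : Commute h u)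
    (hvp : orderOf v = p) (k : ℕ) (hk : h * v * h⁻¹ = v ^ k) (hk1 : v ^ k ≠ v) : Loc p L u 2 := by
  intro M hM X _ _
  have hinj := conj_injective hS
  refine H (MulAut S) M hM _ _ (cen_normal X u) (MulAut.conj v) (MulAut.conj h) (mem_cen hv) (mem_cen hh) ?_ k ?_ ?_
  · rw [orderOf_injective _ hinj, hvp]
  · rw [← map_mul, ← map_inv, ← map_mul, hk, map_pow]
  · rw [← map_pow]
    exact fun h => hk1 (hinj h)

/-- the index of `C_S(u)` in `C_X(u)` is prime to `p` -/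
theorem not_dvd_cen {p : ℕ} [hp : Fact p.Prime] [Finite S] [IsSimpleGroup S] (hS : ¬ IsMulCommutative S)
    {X : Subgroup (MulAut S)} (hX : Adm p S X) (u : S) {n : ℕ} (h : ¬ p ^ n ∣ Nat.card S) :
    ¬ p ^ n ∣ Nat.card ↥(Cen X u) := by
  have hinj := conj_injective hS
  have h1 : Nat.card (Inn S) = Nat.card S := (Nat.card_congr (MonoidHom.ofInjective hinj).toEquiv).symm
  have h2 : ¬ p ^ n ∣ Nat.card X := by
    intro h3
    rw [← Subgroup.card_mul_index ((Inn S).subgroupOf X)] at h3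
    have h4 : Nat.card ((Inn S).subgroupOf X) = Nat.card S := by
      rw [← h1]
      exact Nat.card_congr (Subgroup.subgroupOfEquivOfLe hX.1).toEquiv
    have h5 : ¬ p ∣ ((Inn S).subgroupOf X).index := hX.2
    rw [h4] at h3
    exact h ((Nat.Coprime.pow_left n ((Nat.Prime.coprime_iff_not_dvd hp.out).2 h5)).dvd_of_dvd_mul_right h3)
  exact fun h3 => h2 (h3.trans (Subgroup.card_dvd_of_le inf_le_left))

/-- from a quotient of `C_X(u)` -/
theorem loc_quot {p : ℕ} [hp : Fact p.Prime] [Finite S] (Hm : EpsMap.{u, w} p) (Hc : EpsCyc.{w} p)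
    {M : Ideal AlgInt} (hM : IsPModular p M) {X : Subgroup (MulAut S)} (hX : Inn S ≤ X) (u : S)
    {Y : Type w} [Group Y] [Finite Y] (F : ↥(Cen X u) →* Y) (hY : ¬ p ^ 2 ∣ Nat.card F.range)
    (v h : ↥(Cen X u)) (hv : (v : MulAut S) ∈ Cen (Inn S) u) (hh : (h : MulAut S) ∈ Cen (Inn S) u)
    (hvp : orderOf (F v) = p) (k : ℕ) (hk : h * v * h⁻¹ = v ^ k) :
    orderOf (k : ZMod p) ≤ eps p M (Cen (Inn S) u) (Cen X u) := by
  refine le_trans ?_ (Hm (MulAut S) M hM Y (Cen (Inn S) u) (Cen X u) (cen_le hX u) (cen_normal X u) F)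
  refine Hc Y M hM _ _ ?_ ?_ hY (F v) (F h) ?_ ?_ hvp k ?_
  · rintro _ ⟨x, -, rfl⟩
    exact ⟨x, rfl⟩
  · rintro _ ⟨c, rfl⟩ _ ⟨x, hx, rfl⟩
    exact ⟨c * x * c⁻¹, cen_normal X u c c.2 x hx, by rw [map_mul, map_mul, map_inv]⟩
  · exact ⟨v, hv, rfl⟩
  · exact ⟨h, hh, rfl⟩
  · rw [← map_mul, ← map_inv, ← map_mul, hk, map_pow]

theorem loc_B_of {p : ℕ} [hp : Fact p.Prime] [Finite S] [IsSimpleGroup S] (Hm : EpsMap.{u, u} p)
    (Hc : EpsCyc.{u} p) (hS : ¬ IsMulCommutative S) (h3 : ¬ p ^ 3 ∣ Nat.card S) (L : Subgroup (MulAut S)) (u v h : S)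
    (hu : orderOf u = p) (hv : Commute v u) (hh : Commute h u)
    (hvp : orderOf v = p) (hvu : v ∉ Subgroup.zpowers u) (k : ℕ) (hk : h * v * h⁻¹ = v ^ k) :
    Loc p L u (orderOf (k : ZMod p)) := by
  intro M hM X hX hXL
  have hinj := conj_injective hS
  have huC : MulAut.conj u ∈ Cen X u := cen_le hX.1 u (mem_cen (Commute.refl u))
  let Z : Subgroup ↥(Cen X u) := zpowers ⟨MulAut.conj u, huC⟩
  have hZ : Z ≤ center ↥(Cen X u) := by
    rw [zpowers_le, mem_center_iff]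
    intro g
    apply Subtype.ext
    exact mem_centralizer_singleton_iff.1 g.2.2
  have hZn : Z.Normal := by
    refine ⟨fun z hz g => ?_⟩
    have h1 := mem_center_iff.1 (hZ hz) g
    rw [h1, mul_inv_cancel_right]
    exact hz
  have hcZ : Nat.card Z = p := by
    rw [Nat.card_zpowers, ← hu, ← orderOf_injective _ hinj u]
    exact (Subgroup.orderOf_coe (⟨MulAut.conj u, huC⟩ : ↥(Cen X u))).symm
  have hvC : MulAut.conj v ∈ Cen X u := cen_le hX.1 u (mem_cen hv)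
  have hhC : MulAut.conj h ∈ Cen X u := cen_le hX.1 u (mem_cen hh)
  refine loc_quot Hm Hc hM hX.1 u (QuotientGroup.mk' Z) ?_ ⟨_, hvC⟩ ⟨_, hhC⟩ (mem_cen hv) (mem_cen hh) ?_ k ?_
  · intro h4
    rw [MonoidHom.range_eq_top.2 (QuotientGroup.mk'_surjective Z), Subgroup.card_top] at h4
    apply not_dvd_cen hS hX u h3
    rw [Subgroup.card_eq_card_quotient_mul_card_subgroup Z, hcZ, pow_succ]
    exact Nat.mul_dvd_mul_right h4 p
  · apply orderOf_eq_prime
    · rw [← map_pow]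
      have h5 : (⟨MulAut.conj v, hvC⟩ : ↥(Cen X u)) ^ p = 1 := by
        apply Subtype.ext
        show MulAut.conj v ^ p = 1
        rw [← map_pow, ← hvp, pow_orderOf_eq_one, map_one]
      rw [h5, map_one]
    · intro h5
      rw [← MonoidHom.mem_ker, QuotientGroup.ker_mk'] at h5
      obtain ⟨j, hj⟩ := mem_zpowers_iff.1 h5
      apply hvu
      rw [mem_zpowers_iff]
      refine ⟨j, hinj ?_⟩
      rw [map_zpow]
      exact congrArg Subtype.val hj
  · apply Subtype.ext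
    show MulAut.conj h * MulAut.conj v * (MulAut.conj h)⁻¹ = MulAut.conj v ^ k
    rw [← map_mul, ← map_inv, ← map_mul, hk, map_pow]

theorem loc_Q_of {p : ℕ} [hp : Fact p.Prime] [Finite S] {Y : Type w} [Group Y] [Finite Y] (Hm : EpsMap.{u, w} p)
    (Hc : EpsCyc.{w} p) (L : Subgroup (MulAut S)) {L' : Type v} [Group L'] (ψ : L' →* MulAut S)
    (hL : L ≤ ψ.range) (u : S) (hY : ¬ p ^ 2 ∣ Nat.card Y)
    (f : ↥((Subgroup.centralizer {MulAut.conj u}).comap ψ) →* Y)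
    (hf : ∀ x : ↥((Subgroup.centralizer {MulAut.conj u}).comap ψ), ψ (x : L') = 1 → f x = 1)
    (v h : S) (v' h' : ↥((Subgroup.centralizer {MulAut.conj u}).comap ψ)) (hv : ψ (v' : L') = MulAut.conj v)
    (hh : ψ (h' : L') = MulAut.conj h) (hvp : ∃ m : ℕ, orderOf v = p ^ m) (hfv : f v' ≠ 1) (k : ℕ)
    (hk : h * v * h⁻¹ = v ^ k) : Loc p L u (orderOf (k : ZMod p)) := by
  intro M hM X hX hXL
  -- preimages
  have hpre : ∀ c : ↥(Cen X u), ∃ x : ↥((Subgroup.centralizer {MulAut.conj u}).comap ψ), ψ (x : L') = c := by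
    intro c
    obtain ⟨x, hx⟩ := hL (hXL c.2.1)
    refine ⟨⟨x, ?_⟩, hx⟩
    rw [mem_comap, hx]
    exact c.2.2
  have heq : ∀ x y : ↥((Subgroup.centralizer {MulAut.conj u}).comap ψ), ψ (x : L') = ψ (y : L') → f x = f y := by
    intro x y hxy
    have h1 : f (x * y⁻¹) = 1 := by
      apply hf
      show ψ ((x : L') * (y : L')⁻¹) = 1
      rw [map_mul, map_inv, hxy, mul_inv_cancel]
    rw [map_mul, map_inv, mul_inv_eq_one] at h1
    exact h1
  choose g hg using hpre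
  let F : ↥(Cen X u) →* Y :=
    { toFun := fun c => f (g c)
      map_one' := by
        apply hf
        rw [hg]
        rfl
      map_mul' := fun a b => by
        rw [← map_mul]
        apply heq
        rw [hg]
        show _ = ψ ((g a : L') * (g b : L'))
        rw [map_mul, hg, hg]
        rfl }
  have hFe : ∀ (c : ↥(Cen X u)) (x : ↥((Subgroup.centralizer {MulAut.conj u}).comap ψ)), ψ (x : L') = c → F c = f x :=
    fun c x hx => heq _ _ ((hg c).trans hx.symm)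
  have hcv : MulAut.conj v ∈ Cen (Inn S) u := by
    refine Subgroup.mem_inf.2 ⟨⟨v, rfl⟩, ?_⟩
    have h1 := v'.2
    rw [mem_comap, hv] at h1
    exact h1
  have hch : MulAut.conj h ∈ Cen (Inn S) u := by
    refine Subgroup.mem_inf.2 ⟨⟨h, rfl⟩, ?_⟩
    have h1 := h'.2
    rw [mem_comap, hh] at h1
    exact h1
  have hvC := cen_le hX.1 u hcv
  have hhC := cen_le hX.1 u hch
  refine loc_quot Hm Hc hM hX.1 u F ?_ ⟨_, hvC⟩ ⟨_, hhC⟩ hcv hch ?_ k ?_
  · exact fun h1 => hY (h1.trans (Subgroup.card_subgroup_dvd_card F.range))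
  · obtain ⟨m, hm⟩ := hvp
    have h1 : F ⟨_, hvC⟩ ^ p ^ m = 1 := by
      rw [← map_pow]
      have h5 : (⟨MulAut.conj v, hvC⟩ : ↥(Cen X u)) ^ p ^ m = 1 := by
        apply Subtype.ext
        show MulAut.conj v ^ p ^ m = 1
        rw [← map_pow, ← hm, pow_orderOf_eq_one, map_one]
      rw [h5, map_one]
    obtain ⟨j, -, hj⟩ := (Nat.dvd_prime_pow hp.out).1 (orderOf_dvd_of_pow_eq_one h1)
    have h2 : j ≠ 0 := by
      rintro rfl
      rw [pow_zero, orderOf_eq_one_iff, hFe _ v' hv] at hj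
      exact hfv hj
    have h3 : ¬ 2 ≤ j := by
      intro h3
      apply hY
      exact (pow_dvd_pow p h3).trans (hj ▸ orderOf_dvd_natCard (F ⟨_, hvC⟩))
    have h4 : j = 1 := by omega
    rw [hj, h4, pow_one]
  · apply Subtype.ext
    show MulAut.conj h * MulAut.conj v * (MulAut.conj h)⁻¹ = MulAut.conj v ^ k
    rw [← map_mul, ← map_inv, ← map_mul, hk, map_pow]

end

end Cfsg.Agent.H488.Pb
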